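import Groth.Agent.Quot8.PnFamily
import Groth.Agent.Coherent.ProjSpaceBC
import Groth.Agent.Coherent.CechTensor
import Groth.Agent.Coherent.RpushVanish
import Mathlib.CategoryTheory.Limits.Constructions.Filtered

/-!
# `R^q π_*` of `π^*G ⊗ O(d)` on projective space
-/

set_option autoImplicit false
set_option backward.isDefEq.respectTransparency false
set_option linter.style.haveILetI false

universe v v' u u'

open CategoryTheory CategoryTheory.Limits AlgebraicGeometry Opposite TopologicalSpace TensorProduct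
open Groth.Agent.Coherent Groth.Agent.Coherent.CohBC

namespace Groth.Agent.ProjVanish14

/-- A functor commuting with filtered colimits and finite coproducts kills a coproduct of killed objects. -/
theorem isZero_obj_sigma {C : Type u} [Category.{v} C] {D : Type u'} [Category.{v'} D] [HasZeroMorphisms D]
    [HasColimits C] (F : C ⥤ D) {ι : Type v} [PreservesColimitsOfShape (Finset (Discrete ι)) F]
    (hfin : ∀ s : Finset (Discrete ι), PreservesColimitsOfShape (Discrete s) F) (Z : ι → C)
    (h : ∀ j, IsZero (F.obj (Z j))) : IsZero (F.obj (∐ Z)) := by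
  classical
  let K := Discrete.functor Z
  let D' := CoproductsFromFiniteFiltered.liftToFinsetObj K
  have hfin' : ∀ s : Finset (Discrete ι), IsZero (F.obj (D'.obj s)) := fun s => by
    haveI := hfin s
    rw [IsZero.iff_id_eq_zero]
    exact (isColimitOfPreserves F (colimit.isColimit (Discrete.functor fun x : s => K.obj x))).hom_ext
      fun x => (h x.as.1.as).eq_of_src _ _
  have h0 : IsZero (F.obj (colimit D')) := by
    rw [IsZero.iff_id_eq_zero]
    exact (isColimitOfPreserves F (colimit.isColimit D')).hom_ext fun s => (hfin' s).eq_of_src _ _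
  exact h0.of_iso (F.mapIso
    (colimit.isoColimitCocone (CoproductsFromFiniteFiltered.liftToFinsetColimitCocone K)))

theorem subsingleton_HH_of_iso {Y : Scheme.{u}} {M N : Y.Modules} (e : M ≅ N) (n : ℕ)
    [Subsingleton (Coh.HH Y N n)] : Subsingleton (Coh.HH Y M n) := by
  refine subsingleton_of_forall_eq 0 fun x => ?_
  have e1 : Sheaf.H.map ((toAbFunctor Y).map e.inv) n (Sheaf.H.map ((toAbFunctor Y).map e.hom) n x) = x := by
    rw [← Sheaf.H.map_comp_apply, ← Functor.map_comp, e.hom_inv_id, CategoryTheory.Functor.map_id,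
      Sheaf.H.map_id_apply]
  rw [← e1, Subsingleton.elim (Sheaf.H.map ((toAbFunctor Y).map e.hom) n x) 0, map_zero]

variable (n : ℕ) (d : ℤ)

/-- Outside the exceptional cases `O(d) ⊗ M` is acyclic on `P^n_R`. -/
theorem subsingleton_HH_twist_tensor (R : Type u) [CommRing R] (q : ℕ) (h₀ : ¬ (q = 0 ∧ 0 ≤ d))
    (hn : ¬ (q = n ∧ d ≤ -((n : ℤ) + 1))) (M : ModuleCat.{u} R) :
    Subsingleton (Coh.HH (CohB1.ProjSpace n R) (CohB1.tensorMod (Twist.twistProjSpace n R d) (pullTilde R M)) q) := by
  let X := CohB1.ProjSpace n R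
  have : IsProper (X ↘ Spec (CommRingCat.of R)) := isProper_projSpace_toSpec n R
  let F : X.Modules := Twist.twistProjSpace n R d
  have hFq : Coh.IsQCoh F := AmpleLib.isQCoh_of_isInvertible (isInvertible_twistProjSpaceZ n d R)
  obtain ⟨ι, _, W, hcov, hW⟩ := exists_affine_cover R X
  have hfl := flat_cxA W F (isFlatOver_twistProjSpaceZ n d R) hW
  have hH : ∀ m, Module.Flat R ((cxA R W F).homology m) := fun m => by
    have := flat_HH_twist n d R m
    exact Module.Flat.of_linearEquiv (hhCech R W hcov hW F m).symm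
  obtain ⟨e⟩ := nonempty_homology_tensor_nat (cxA R W F) hfl (Nat.card ι)
    (fun m hm M => isZero_T_cxA W F hW hcov m hm M) hH q M
  have : Subsingleton ((cxA R W F).homology q) := by
    have := subsingleton_HH_twist (R := R) (d := d) q h₀ hn
    exact (hhCech R W hcov hW F q).symm.toEquiv.subsingleton
  have : Subsingleton (CohIII.T (cxA R W F) q M) := e.symm.toEquiv.subsingleton
  exact (hhTensorEquiv W F hW hcov M q).toEquiv.subsingleton

variable {n d}

/-- Outside the exceptional cases `R^q π_*(π^*G ⊗ O(d)) = 0`. -/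
theorem isZero_rpushAb_twist {P T : Scheme.{u}} {π : P ⟶ T} {h : P ⟶ CohB1.ProjSpace n (ULift.{u} ℤ)}
    (H : Quot8.IsPn n π h) (G : T.Modules) (hG : Coh.IsQCoh G) (q : ℕ) (h₀ : ¬ (q = 0 ∧ 0 ≤ d))
    (hn : ¬ (q = n ∧ d ≤ -((n : ℤ) + 1))) :
    IsZero ((Coh.RpushAb π q).obj (Coh.toAb (CohB1.tensorMod ((Scheme.Modules.pullback π).obj G) (Quot8.OT n h d)))) := by
  refine isZero_rpushAb_of_basis π {V | IsAffineOpen V} T.isBasis_affineOpens _ q fun V hV => ?_
  let R : Type u := Γ(T, V)
  obtain ⟨g, hg, hgt⟩ := H.exists_projSquare (R := R) hV.fromSpec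
  haveI : IsOpenImmersion g := MorphismProperty.of_isPullback (P := @IsOpenImmersion) hg.flip inferInstance
  haveI : Coh.IsQCoh ((Scheme.Modules.pullback hV.fromSpec).obj G) :=
    haveI := hG
    EGA43.InjFibre.isQCoh_pullback hV.fromSpec G
  let G' : (Spec (CommRingCat.of R)).Modules := (Scheme.Modules.pullback hV.fromSpec).obj G
  haveI : IsIso G'.fromTildeΓ := (isQuasicoherent_iff_isIso_fromTildeΓ G').1 inferInstance
  let M := moduleSpecΓFunctor.obj G'
  obtain ⟨e₁⟩ := Quot8.nonempty_pullback_twist_point hgt ((Scheme.Modules.pullback π).obj G) d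
  let e₂ : (Scheme.Modules.pullback g).obj ((Scheme.Modules.pullback π).obj G) ≅
      pullTilde (X := CohB1.ProjSpace n R) R M :=
    (Scheme.Modules.pullbackComp g π).app G ≪≫ (Scheme.Modules.pullbackCongr hg.w).app G ≪≫
      ((Scheme.Modules.pullbackComp _ hV.fromSpec).app G).symm ≪≫
        (Scheme.Modules.pullback (CohB1.ProjSpace n R ↘ Spec (CommRingCat.of R))).mapIso (asIso G'.fromTildeΓ).symm
  let e : (CohB1.tensorMod ((Scheme.Modules.pullback π).obj G) (Quot8.OT n h d)).restrict g ≅
      CohB1.tensorMod (Twist.twistProjSpace n R d) (pullTilde (X := CohB1.ProjSpace n R) R M) :=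
    (Scheme.Modules.restrictFunctorIsoPullback g).app _ ≪≫ e₁ ≪≫ AmpleLib.tensorIso e₂ (Iso.refl _) ≪≫
      AmpleLib.tensorComm _ _
  have him : g ''ᵁ ⊤ = π ⁻¹ᵁ V := by
    rw [Scheme.Hom.image_top_eq_opensRange]
    refine Opens.ext ?_
    show Set.range g.base = π.base ⁻¹' (V : Set T)
    rw [← hV.range_fromSpec]
    rw [← hg.isoPullback_hom_fst]
    refine Eq.trans ?_ (Scheme.Pullback.range_fst _ _)
    exact Set.ext fun x => ⟨fun ⟨y, hy⟩ => ⟨hg.isoPullback.hom.base y, hy⟩,
      fun ⟨y, hy⟩ => ⟨hg.isoPullback.inv.base y, by rw [← hy, ← Scheme.Hom.comp_apply, Iso.inv_hom_id_assoc]⟩⟩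
  haveI := subsingleton_HH_twist_tensor n d R q h₀ hn M
  haveI := subsingleton_HH_of_iso e q
  exact ((H'Congr _ q him.symm).trans ((H'ModRestrictEquiv g _ ⊤ q).symm.trans
    (HHTopEquiv _ q).symm)).toEquiv.subsingleton

end Groth.Agent.ProjVanish14
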